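import Groth.Agent.HenselLib.LocalCover
import Groth.Agent.CohenLib.FlatUnramified
import Groth.Agent.CommAlgDim.Depth
import Groth.Agent.LocCohLib.NonVanishingApp
import Mathlib.RingTheory.Unramified.LocalRing
import Mathlib.RingTheory.RingHom.Flat
import Mathlib.RingTheory.Ideal.AssociatedPrime.Localization
import Mathlib.RingTheory.DiscreteValuationRing.TFAE

/-! Properties of Noetherian flat ind-étale local extensions (henselizations, strict henselizations). -/

set_option autoImplicit false
set_option linter.style.haveILetI false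
set_option maxHeartbeats 1600000
universe u

open IsLocalRing
open scoped TensorProduct

namespace HenselDesc

section General

variable (A B : Type u) [CommRing A] [IsLocalRing A] [IsNoetherianRing A] [CommRing B] [IsLocalRing B]
  [IsNoetherianRing B] [Algebra A B] [Module.Flat A B]

theorem isLocalHom_of_map (hm : (maximalIdeal A).map (algebraMap A B) = maximalIdeal B) :
    IsLocalHom (algebraMap A B) :=
  ((local_hom_TFAE _).out 2 0).1 hm.le

theorem depth_eq_of_flat_unramified (hm : (maximalIdeal A).map (algebraMap A B) = maximalIdeal B) :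
    LocCoh.depth B B = LocCoh.depth A A := by
  haveI := isLocalHom_of_map A B hm
  haveI : Module.FaithfullyFlat A B := Module.FaithfullyFlat.of_flat_of_isLocalHom
  have h := LocCohLib.idealDepth_baseChange_eq (B := B) (maximalIdeal A) A
  rw [hm] at h
  rw [← CommAlgDim.depth_congr (Algebra.TensorProduct.rid A B B).toLinearEquiv]
  exact h

theorem spanFinrank_eq_of_flat_unramified' (hm : (maximalIdeal A).map (algebraMap A B) = maximalIdeal B) :
    (maximalIdeal B).spanFinrank = (maximalIdeal A).spanFinrank := by
  classical
  haveI := isLocalHom_of_map A B hm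
  haveI : Module.FaithfullyFlat A B := Module.FaithfullyFlat.of_flat_of_isLocalHom
  have hfg : (maximalIdeal A).FG := IsNoetherian.noetherian _
  let G := (maximalIdeal A).generators
  have hGfin : G.Finite := Submodule.FG.finite_generators hfg
  have hG : Ideal.span G = maximalIdeal A := Submodule.span_generators _
  have hspan : maximalIdeal B = Ideal.span (algebraMap A B '' G) := by
    rw [← Ideal.map_span, hG, hm]
  refine le_antisymm ?_ ?_
  · rw [hspan]
    refine (Submodule.spanFinrank_span_le_ncard_of_finite (hGfin.image _)).trans ?_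
    exact (Set.ncard_image_le hGfin).trans (Submodule.FG.generators_ncard hfg).le
  · rw [spanFinrank_maximalIdeal_eq_finrank_cotangentSpace (R := B)]
    haveI := hGfin.fintype
    have hmem : ∀ g : G, algebraMap A B g ∈ maximalIdeal B := fun g => by
      rw [hspan]; exact Ideal.subset_span ⟨g, g.2, rfl⟩
    let c : G → CotangentSpace B := fun g => (maximalIdeal B).toCotangent ⟨_, hmem g⟩
    have hli : LinearIndependent (ResidueField B) c := by
      refine linearIndependent_iff_notMem_span.2 fun j hj => ?_
      have hsub : algebraMap A B j ∈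
          ((Ideal.span ((fun i : G => (i : A)) '' (Set.univ \ {j}))) ⊔ maximalIdeal A ^ 2).map (algebraMap A B) := by
        rw [Ideal.map_sup, Ideal.map_pow, hm, Ideal.map_span, Set.image_image]
        have hj' : c j ∈ Submodule.span B (c '' (Set.univ \ {j})) := by
          rwa [← Submodule.restrictScalars_mem B, Submodule.restrictScalars_span B (ResidueField B) residue_surjective] at hj
        rw [Finsupp.mem_span_image_iff_linearCombination] at hj'
        obtain ⟨l, hl, hlc⟩ := hj'
        let z : maximalIdeal B := Finsupp.linearCombination B (fun i : G => (⟨_, hmem i⟩ : maximalIdeal B)) l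
        have hz : (maximalIdeal B).toCotangent z = (maximalIdeal B).toCotangent ⟨_, hmem j⟩ := by
          rw [show (maximalIdeal B).toCotangent z = Finsupp.linearCombination B c l from
            Finsupp.apply_linearCombination _ _ _ _, hlc]
        rw [Ideal.toCotangent_eq] at hz
        have hzmem : (z : B) ∈ Ideal.span ((fun i : G => algebraMap A B (i : A)) '' (Set.univ \ {j})) := by
          have h1 : (z : B) = Finsupp.linearCombination B (fun i : G => algebraMap A B (i : A)) l :=
            Finsupp.apply_linearCombination _ (Submodule.subtype (maximalIdeal B)) _ _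
          rw [h1]
          exact (Finsupp.mem_span_image_iff_linearCombination B).2 ⟨l, hl, rfl⟩
        have := Ideal.add_mem (Ideal.span ((fun i : G => algebraMap A B (i : A)) '' (Set.univ \ {j})) ⊔ maximalIdeal B ^ 2)
          (Ideal.mem_sup_left hzmem) (Ideal.mem_sup_right (neg_mem hz))
        simpa using this
      rw [← Ideal.mem_comap, Ideal.comap_map_eq_self_of_faithfullyFlat] at hsub
      -- then `G` would not be minimal
      have hle : maximalIdeal A ≤ Ideal.span ((fun i : G => (i : A)) '' (Set.univ \ {j})) := by
        refine Submodule.le_of_le_smul_of_le_jacobson_bot hfg (maximalIdeal_le_jacobson _) ?_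
        rw [smul_eq_mul, ← pow_two]
        nth_rw 1 [← hG]
        refine Ideal.span_le.2 fun g hg => ?_
        by_cases h : (⟨g, hg⟩ : G) = j
        · obtain rfl : g = (j : A) := congrArg Subtype.val h
          exact hsub
        · exact Ideal.mem_sup_left (Ideal.subset_span ⟨⟨g, hg⟩, ⟨trivial, h⟩, rfl⟩)
      have heq : Ideal.span ((fun i : G => (i : A)) '' (Set.univ \ {j})) = maximalIdeal A :=
        le_antisymm (Ideal.span_le.2 (by rintro _ ⟨i, -, rfl⟩; exact hG ▸ Ideal.subset_span i.2)) hle
      have h1 := Submodule.spanFinrank_span_le_ncard_of_finite (R := A)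
        ((Set.toFinite (Set.univ \ {j} : Set G)).image (fun i : G => (i : A)))
      rw [show Submodule.span A ((fun i : G => (i : A)) '' (Set.univ \ {j})) = maximalIdeal A from heq] at h1
      have h2 : ((fun i : G => (i : A)) '' (Set.univ \ {j})).ncard < G.ncard := by
        refine Set.ncard_lt_ncard ⟨?_, fun h => ?_⟩ hGfin
        · rintro _ ⟨i, -, rfl⟩; exact i.2
        · obtain ⟨i, hi, he⟩ := h j.2
          exact hi.2 (Subtype.ext he)
      rw [Submodule.FG.generators_ncard hfg] at h2
      omega
    have h := hli.fintype_card_le_finrank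
    rwa [← Nat.card_eq_fintype_card, Nat.card_coe_set_eq, Submodule.FG.generators_ncard hfg] at h

theorem isRegularLocalRing_iff_of_flat_unramified' (hm : (maximalIdeal A).map (algebraMap A B) = maximalIdeal B) :
    IsRegularLocalRing B ↔ IsRegularLocalRing A := by
  rw [isRegularLocalRing_iff, isRegularLocalRing_iff, spanFinrank_eq_of_flat_unramified' A B hm,
    CohenLib.ringKrullDim_eq_of_flat_unramified A B hm]

end General

variable {R S : Type u} [CommRing R] [CommRing S] [Algebra R S] [IsLocalRing S] [Module.Flat R S]

theorem exists_mul_mem_map (hcov : ∀ x : S, HenselLib.EtCov (R := R) x) (P : Ideal S) [P.IsPrime] {x : S}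
    (hx : x ∈ P) : ∃ s ∉ P, s * x ∈ (P.comap (algebraMap R S)).map (algebraMap R S) := by
  obtain ⟨U, _, _, _, q, _, ψ, -, -, hs⟩ := HenselLib.exists_local_cover hcov {x}
  obtain ⟨x', rfl⟩ := hs x (Finset.mem_singleton_self x)
  let L := Localization.AtPrime q
  obtain ⟨y, t, rfl⟩ := IsLocalization.exists_mk'_eq q.primeCompl x'
  let ξ : U →ₐ[R] S := ψ.comp (IsScalarTower.toAlgHom R U L)
  let Q := P.comap ξ
  have ht : IsUnit (ξ t) := (IsLocalization.map_units L t).map ψ
  have hyQ : y ∈ Q := by
    show ξ y ∈ P
    have : ψ (IsLocalization.mk' L y t) * ξ t = ξ y := by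
      show _ * ψ (algebraMap U L t) = ψ (algebraMap U L y)
      rw [← map_mul, IsLocalization.mk'_spec]
    rw [← this]; exact P.mul_mem_right _ hx
  let p := P.comap (algebraMap R S)
  haveI : Q.LiesOver p := ⟨by
    rw [Ideal.under_def]
    show p = (P.comap (ξ : U →+* S)).comap (algebraMap R U)
    rw [Ideal.comap_comap, ξ.comp_algebraMap]⟩
  letI := Localization.AtPrime.algebraOfLiesOver p Q
  haveI : Algebra.IsUnramifiedAt R Q := inferInstance
  have hmap := ((Algebra.isUnramifiedAt_iff_map_eq R p Q).1 inferInstance).2
  have h1 : algebraMap U (Localization.AtPrime Q) y ∈ (p.map (algebraMap R U)).map (algebraMap U (Localization.AtPrime Q)) := by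
    rw [Ideal.map_map, ← IsScalarTower.algebraMap_eq, hmap, ← Localization.AtPrime.map_eq_maximalIdeal]
    exact Ideal.mem_map_of_mem _ hyQ
  obtain ⟨m, hm, hmy⟩ := (IsLocalization.algebraMap_mem_map_algebraMap_iff Q.primeCompl _ _ _).1 h1
  refine ⟨ξ m * ξ t, fun h => ?_, ?_⟩
  · rcases (inferInstance : P.IsPrime).mem_or_mem h with h | h
    · exact hm h
    · exact (inferInstance : P.IsPrime).ne_top (Ideal.eq_top_of_isUnit_mem _ h ht)
  · have h2 : ψ (IsLocalization.mk' L y t) * ξ t = ξ y := by
      show _ * ψ (algebraMap U L t) = ψ (algebraMap U L y)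
      rw [← map_mul, IsLocalization.mk'_spec]
    show ξ m * ξ t * ψ (IsLocalization.mk' L y t) ∈ _
    rw [mul_assoc, mul_comm (ξ t), h2, ← map_mul]
    have := Ideal.mem_map_of_mem (ξ : U →+* S) hmy
    rwa [Ideal.map_map, ξ.comp_algebraMap] at this

/-- Localizations are flat with trivial closed fibre. -/
theorem localRingHom_props (hcov : ∀ x : S, HenselLib.EtCov (R := R) x) (P : Ideal S) [P.IsPrime]
    (p : Ideal R) [p.IsPrime] [P.LiesOver p]
    [Algebra (Localization.AtPrime p) (Localization.AtPrime P)] [Localization.AtPrime.IsLiesOverAlgebra p P] :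
    Module.Flat (Localization.AtPrime p) (Localization.AtPrime P) ∧
      (maximalIdeal (Localization.AtPrime p)).map (algebraMap (Localization.AtPrime p) (Localization.AtPrime P)) =
        maximalIdeal (Localization.AtPrime P) := by
  refine ⟨?_, ?_⟩
  · rw [← RingHom.flat_algebraMap_iff, Localization.AtPrime.IsLiesOverAlgebra.algebraMap_eq]
    exact (RingHom.flat_algebraMap_iff.2 (inferInstance : Module.Flat R S)).localRingHom P p Ideal.LiesOver.over
  · rw [← Localization.AtPrime.map_eq_maximalIdeal (I := p), Ideal.map_map, ← IsScalarTower.algebraMap_eq,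
      ← Localization.AtPrime.map_eq_maximalIdeal (I := P), IsScalarTower.algebraMap_eq R S (Localization.AtPrime P),
      ← Ideal.map_map]
    refine le_antisymm (Ideal.map_mono (Ideal.map_le_iff_le_comap.2 (le_of_eq Ideal.LiesOver.over)))
      (Ideal.map_le_iff_le_comap.2 fun x hx => ?_)
    obtain ⟨s, hs, hsx⟩ := exists_mul_mem_map hcov P hx
    rw [Ideal.mem_comap, IsLocalization.algebraMap_mem_map_algebraMap_iff P.primeCompl]
    exact ⟨s, hs, by rwa [show p = P.comap (algebraMap R S) from Ideal.LiesOver.over]⟩

variable [IsNoetherianRing R] [IsNoetherianRing S]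

theorem localization_eqs (hcov : ∀ x : S, HenselLib.EtCov (R := R) x) (P : Ideal S) [P.IsPrime]
    (p : Ideal R) [p.IsPrime] (hp : p = P.comap (algebraMap R S)) :
    ringKrullDim (Localization.AtPrime P) = ringKrullDim (Localization.AtPrime p) ∧
      LocCoh.depth (Localization.AtPrime P) (Localization.AtPrime P) =
        LocCoh.depth (Localization.AtPrime p) (Localization.AtPrime p) ∧
      (IsRegularLocalRing (Localization.AtPrime P) ↔ IsRegularLocalRing (Localization.AtPrime p)) := by
  haveI : P.LiesOver p := ⟨hp⟩
  letI := Localization.AtPrime.algebraOfLiesOver p P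
  obtain ⟨hflat, hm⟩ := localRingHom_props hcov P p
  haveI := hflat
  exact ⟨CohenLib.ringKrullDim_eq_of_flat_unramified _ _ hm, depth_eq_of_flat_unramified _ _ hm,
    isRegularLocalRing_iff_of_flat_unramified' _ _ hm⟩

theorem height_eq (hcov : ∀ x : S, HenselLib.EtCov (R := R) x) (P : Ideal S) [P.IsPrime]
    (p : Ideal R) [p.IsPrime] (hp : p = P.comap (algebraMap R S)) : P.height = p.height := by
  have h := (localization_eqs hcov P p hp).1
  rw [IsLocalization.AtPrime.ringKrullDim_eq_height P (Localization.AtPrime P),
    IsLocalization.AtPrime.ringKrullDim_eq_height p (Localization.AtPrime p)] at h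
  exact_mod_cast h

theorem exists_over [Module.FaithfullyFlat R S] (p : Ideal R) [p.IsPrime] :
    ∃ (P : Ideal S) (_ : P.IsPrime), p = P.comap (algebraMap R S) := by
  obtain ⟨P, hP⟩ := PrimeSpectrum.comap_surjective_of_faithfullyFlat (A := R) (B := S) ⟨p, inferInstance⟩
  exact ⟨P.asIdeal, P.2, (congrArg PrimeSpectrum.asIdeal hP).symm⟩

theorem hasRk_iff [Module.FaithfullyFlat R S] (hcov : ∀ x : S, HenselLib.EtCov (R := R) x) (k : ℕ) :
    LocCoh.HasRk k S ↔ LocCoh.HasRk k R := by
  refine ⟨fun h p _ hk => ?_, fun h P _ hk => ?_⟩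
  · obtain ⟨P, _, hP⟩ := exists_over (S := S) p
    exact (localization_eqs hcov P p hP).2.2.1 (h P (by rwa [height_eq hcov P p hP]))
  · exact (localization_eqs hcov P _ rfl).2.2.2 (h _ (by rwa [← height_eq hcov P _ rfl]))

theorem localized_self {A : Type u} [CommRing A] (p : Ideal A) [p.IsPrime] :
    Module.supportDim (Localization.AtPrime p) (LocalizedModule p.primeCompl A) = ringKrullDim (Localization.AtPrime p) ∧
      LocCoh.depth (Localization.AtPrime p) (LocalizedModule p.primeCompl A) =
        LocCoh.depth (Localization.AtPrime p) (Localization.AtPrime p) := by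
  let e := IsLocalizedModule.mapEquiv p.primeCompl (LocalizedModule.mkLinearMap p.primeCompl A)
    (Algebra.linearMap A (Localization.AtPrime p)) (Localization.AtPrime p) (LinearEquiv.refl A A)
  exact ⟨(Module.supportDim_eq_of_equiv e).trans (Module.supportDim_self_eq_ringKrullDim _),
    CommAlgDim.depth_congr e⟩

theorem hasSk_iff [Module.FaithfullyFlat R S] (hcov : ∀ x : S, HenselLib.EtCov (R := R) x) (k : ℕ) :
    LocCoh.HasSk k S S ↔ LocCoh.HasSk k R R := by
  refine ⟨fun h p _ => ?_, fun h P _ => ?_⟩
  · obtain ⟨P, _, hP⟩ := exists_over (S := S) p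
    have := h P
    rw [(localized_self P).1, (localized_self P).2, (localization_eqs hcov P p hP).1,
      (localization_eqs hcov P p hP).2.1] at this
    rwa [(localized_self p).1, (localized_self p).2]
  · have := h (P.comap (algebraMap R S))
    rw [(localized_self _).1, (localized_self _).2] at this
    rwa [(localized_self P).1, (localized_self P).2, (localization_eqs hcov P _ rfl).1,
      (localization_eqs hcov P _ rfl).2.1]

theorem mem_associatedPrimes_iff_depth {A : Type u} [CommRing A] [IsNoetherianRing A] (p : Ideal A) [p.IsPrime] :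
    p ∈ associatedPrimes A A ↔ ¬ (1 : ℕ∞) ≤ LocCoh.depth (Localization.AtPrime p) (Localization.AtPrime p) := by
  have h1 : maximalIdeal (Localization.AtPrime p) ∈ associatedPrimes (Localization.AtPrime p) (Localization.AtPrime p) ↔
      p ∈ associatedPrimes A A := by
    rw [← Module.associatedPrimes.preimage_comap_associatedPrimes_eq_associatedPrimes_of_isLocalizedModule
      (R' := Localization.AtPrime p) p.primeCompl (Algebra.linearMap A (Localization.AtPrime p)), Set.mem_preimage, ← Ideal.under_def,
      Localization.AtPrime.under_maximalIdeal]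
  rw [← h1, ← Nat.cast_one, CommAlgDim.le_depth_iff, CommAlgDim.hasSeqIn_one_iff]
  refine ⟨fun h h' => h' _ h le_rfl, fun h => ?_⟩
  push Not at h
  obtain ⟨q, hq, hle⟩ := h
  rwa [(maximalIdeal.isMaximal _).eq_of_le hq.1.ne_top hle]

theorem mem_associatedPrimes_iff (hcov : ∀ x : S, HenselLib.EtCov (R := R) x) (P : Ideal S) [P.IsPrime] :
    P ∈ associatedPrimes S S ↔ P.comap (algebraMap R S) ∈ associatedPrimes R R := by
  rw [mem_associatedPrimes_iff_depth, mem_associatedPrimes_iff_depth, (localization_eqs hcov P _ rfl).2.1]

end HenselDesc
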