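import Groth.Agent.HenselDesc.Local
import Mathlib.RingTheory.HopkinsLevitzki
import Mathlib.RingTheory.Unramified.Field
import Mathlib.FieldTheory.SeparableClosure
import Mathlib.RingTheory.Etale.Basic
import Mathlib.RingTheory.EssentialFiniteness
import Mathlib.Algebra.Algebra.Pi

/-! Fibres of Noetherian flat ind-étale local extensions. -/

set_option autoImplicit false
set_option linter.style.haveILetI false
set_option maxHeartbeats 1600000
universe u

open IsLocalRing
open scoped TensorProduct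

namespace HenselDesc

variable {R S : Type u} [CommRing R] [CommRing S] [Algebra R S]

theorem exists_mul_eq_tmul (p : Ideal R) [p.IsPrime] (z : p.ResidueField ⊗[R] S) :
    ∃ r ∉ p, ∃ s : S, algebraMap R (p.ResidueField ⊗[R] S) r * z = 1 ⊗ₜ s := by
  induction z using TensorProduct.induction_on with
  | zero => exact ⟨1, (inferInstance : p.IsPrime).one_notMem, 0, by simp⟩
  | tmul k s =>
    obtain ⟨a, b, hb, rfl⟩ := IsFractionRing.div_surjective (R ⧸ p) k
    obtain ⟨a, rfl⟩ := Ideal.Quotient.mk_surjective a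
    obtain ⟨b, rfl⟩ := Ideal.Quotient.mk_surjective b
    have hb' : b ∉ p := fun h => nonZeroDivisors.ne_zero hb (Ideal.Quotient.eq_zero_iff_mem.2 h)
    refine ⟨b, hb', a • s, ?_⟩
    rw [Algebra.TensorProduct.algebraMap_apply, Algebra.TensorProduct.tmul_mul_tmul, one_mul,
      ← TensorProduct.smul_tmul, Algebra.smul_def, mul_one]
    congr 1
    show algebraMap R p.ResidueField b * _ = algebraMap R p.ResidueField a
    rw [IsScalarTower.algebraMap_apply R (R ⧸ p) p.ResidueField b,
      IsScalarTower.algebraMap_apply R (R ⧸ p) p.ResidueField a, Ideal.Quotient.algebraMap_eq]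
    exact mul_div_cancel₀ _ (fun h => nonZeroDivisors.ne_zero hb ((map_eq_zero_iff _ (IsFractionRing.injective (R ⧸ p) p.ResidueField)).1 h))
  | add z w hz hw =>
    obtain ⟨r, hr, s, hs⟩ := hz
    obtain ⟨r', hr', s', hs'⟩ := hw
    refine ⟨r * r', fun h => ((inferInstance : p.IsPrime).mem_or_mem h).elim hr hr', r' • s + r • s', ?_⟩
    rw [TensorProduct.tmul_add, TensorProduct.tmul_smul, TensorProduct.tmul_smul, ← hs, ← hs', Algebra.smul_def,
      Algebra.smul_def, map_mul]
    ring

variable [IsLocalRing S] [Module.Flat R S] [IsNoetherianRing S]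

theorem isUnit_of_notMem (p : Ideal R) [p.IsPrime] {r : R} (hr : r ∉ p) :
    IsUnit (algebraMap R (p.ResidueField ⊗[R] S) r) := by
  rw [IsScalarTower.algebraMap_apply R p.ResidueField (p.ResidueField ⊗[R] S)]
  refine (IsUnit.mk0 _ ?_).map _
  rwa [Ne, Ideal.algebraMap_residueField_eq_zero]

theorem exists_fibre_equiv (hcov : ∀ x : S, HenselLib.EtCov (R := R) x) (p : Ideal R) [p.IsPrime] :
    ∃ (n : ℕ) (K : Fin n → Type u) (_ : ∀ i, Field (K i)) (_ : ∀ i, Algebra p.ResidueField (K i)),
      (∀ i, Algebra.IsSeparable p.ResidueField (K i)) ∧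
      Nonempty ((p.ResidueField ⊗[R] S) ≃ₐ[p.ResidueField] (Π i, K i)) := by
  let κ := p.ResidueField
  let F := κ ⊗[R] S
  let ι : S →ₐ[R] F := Algebra.TensorProduct.includeRight
  haveI : IsNoetherianRing F := by
    haveI : IsNoetherianRing (S ⊗[R] κ) := Algebra.EssFiniteType.isNoetherianRing S _
    exact isNoetherianRing_of_ringEquiv _ (Algebra.TensorProduct.comm R S κ).toRingEquiv
  have hover : ∀ (Q : Ideal F), Q.IsPrime → (Q.comap ι).comap (algebraMap R S) = p := by
    intro Q hQ
    ext r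
    rw [Ideal.mem_comap, Ideal.mem_comap]
    show ι (algebraMap R S r) ∈ Q ↔ r ∈ p
    rw [ι.commutes]
    refine ⟨fun h => by_contra fun hr => hQ.ne_top (Ideal.eq_top_of_isUnit_mem _ h (isUnit_of_notMem p hr)),
      fun h => ?_⟩
    rw [IsScalarTower.algebraMap_apply R κ F, Ideal.algebraMap_residueField_eq_zero.2 h, map_zero]
    exact zero_mem _
  haveI : Ring.KrullDimLE 0 F := Ring.KrullDimLE.mk₀ fun Q hQ => by
    obtain ⟨M, hM, hQM⟩ := Ideal.exists_le_maximal Q hQ.ne_top
    suffices Q = M by rwa [this]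
    refine le_antisymm hQM fun z hz => ?_
    have heq : Q.comap ι = M.comap ι := by
      haveI := hM.isPrime
      exact HenselLib.eq_of_le_of_comap_eq hcov _ _ (Ideal.comap_mono hQM) ((hover Q hQ).trans (hover M hM.isPrime).symm)
    obtain ⟨r, hr, s, hs⟩ := exists_mul_eq_tmul p z
    have h1 : s ∈ M.comap ι := by
      show (1 : κ) ⊗ₜ[R] s ∈ M
      rw [← hs]; exact M.mul_mem_left _ hz
    rw [← heq] at h1
    have h2 : algebraMap R F r * z ∈ Q := by rw [hs]; exact h1
    exact (hQ.mem_or_mem h2).resolve_left fun h => hQ.ne_top (Ideal.eq_top_of_isUnit_mem _ h (isUnit_of_notMem p hr))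
  haveI : IsArtinianRing F := isArtinianRing_iff_isNoetherianRing_krullDimLE_zero.2 ⟨inferInstance, inferInstance⟩
  haveI : IsReduced F := ⟨fun z hz => by
    obtain ⟨r, hr, s, hs⟩ := exists_mul_eq_tmul p z
    suffices h : ι s = 0 by
      refine (isUnit_of_notMem (S := S) p hr).mul_right_eq_zero.1 ?_
      rw [hs]; exact h
    have hnil : IsNilpotent (ι s) := by
      show IsNilpotent ((1 : κ) ⊗ₜ[R] s)
      rw [← hs]
      exact (Commute.all _ _).isNilpotent_mul_left hz
    by_contra hne
    have htop : (Ideal.span {ι s}).annihilator ≠ ⊤ := fun h => hne (by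
      have h1 : (1 : F) ∈ (Ideal.span {ι s}).annihilator := h ▸ Submodule.mem_top
      simpa using Submodule.mem_annihilator.1 h1 (ι s) (Ideal.mem_span_singleton_self _))
    obtain ⟨Q, hQ, hQ'⟩ := Ideal.exists_le_maximal _ htop
    haveI := hQ.isPrime
    have hsP : s ∈ Q.comap ι := by
      obtain ⟨k, hk⟩ := hnil
      exact hQ.isPrime.mem_of_pow_mem k (hk ▸ zero_mem Q)
    obtain ⟨t, ht, hts⟩ := exists_mul_mem_map hcov (Q.comap ι) hsP
    rw [hover Q hQ.isPrime] at hts
    refine ht (hQ' (Submodule.mem_annihilator.2 fun w hw => ?_))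
    obtain ⟨c, rfl⟩ := Ideal.mem_span_singleton'.1 hw
    have h0 : ι (t * s) = 0 := by
      have h1 := Ideal.mem_map_of_mem (ι : S →+* F) hts
      rw [Ideal.map_map, ι.comp_algebraMap, IsScalarTower.algebraMap_eq R κ F, ← Ideal.map_map,
        show p.map (algebraMap R κ) = ⊥ from (Ideal.map_eq_bot_iff_le_ker _).2 fun r hr =>
          RingHom.mem_ker.2 (Ideal.algebraMap_residueField_eq_zero.2 hr), Ideal.map_bot, Ideal.mem_bot] at h1
      exact h1
    rw [smul_eq_mul, mul_left_comm, ← map_mul, h0, mul_zero]⟩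
  let e₀ := IsArtinianRing.equivPi F
  have hsep : ∀ I : MaximalSpectrum F, letI := Ideal.Quotient.field I.asIdeal
      Algebra.IsSeparable κ (F ⧸ I.asIdeal) := by
    intro I
    letI := Ideal.Quotient.field I.asIdeal
    refine ⟨fun w => ?_⟩
    obtain ⟨z, rfl⟩ := Ideal.Quotient.mk_surjective w
    obtain ⟨r, hr, s, hs⟩ := exists_mul_eq_tmul p z
    let π : F →ₐ[κ] F ⧸ I.asIdeal := Ideal.Quotient.mkₐ κ I.asIdeal
    have hsep1 : IsSeparable κ (π ((1 : κ) ⊗ₜ[R] s)) := by
      obtain ⟨U, _, _, _, q, _, ψ, -, -, hU⟩ := HenselLib.exists_local_cover hcov {s}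
      obtain ⟨x', rfl⟩ := hU s (Finset.mem_singleton_self s)
      obtain ⟨y, t, rfl⟩ := IsLocalization.exists_mk'_eq q.primeCompl x'
      let ξ : U →ₐ[R] S := ψ.comp (IsScalarTower.toAlgHom R U (Localization.AtPrime q))
      let g : κ ⊗[R] U →ₐ[κ] F ⧸ I.asIdeal := π.comp (Algebra.TensorProduct.map (AlgHom.id κ κ) ξ)
      haveI : (RingHom.ker g).IsPrime := RingHom.ker_isPrime _
      let Kd := (κ ⊗[R] U) ⧸ RingHom.ker g
      haveI : Algebra.FormallyUnramified κ Kd :=
        Algebra.FormallyUnramified.of_surjective (Ideal.Quotient.mkₐ κ (RingHom.ker g)) Ideal.Quotient.mk_surjective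
      haveI : Algebra.FiniteType κ Kd :=
        Algebra.FiniteType.of_surjective (Ideal.Quotient.mkₐ κ (RingHom.ker g)) Ideal.Quotient.mk_surjective
      haveI : Module.Finite κ Kd := Algebra.FormallyUnramified.finite_of_free _ _
      letI : Field Kd := (isField_of_isIntegral_of_isField' (R := κ) (S := Kd) (Field.toIsField κ)).toField
      haveI : Algebra.IsSeparable κ Kd := Algebra.FormallyUnramified.isSeparable κ Kd
      let g' : Kd →ₐ[κ] F ⧸ I.asIdeal := Ideal.kerLiftAlg g
      have hsu : ∀ u, IsSeparable κ (π ((1 : κ) ⊗ₜ[R] ξ u)) := fun u => by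
        have h1 := (Algebra.IsSeparable.isSeparable κ (Ideal.Quotient.mk (RingHom.ker g) ((1 : κ) ⊗ₜ[R] u) : Kd)).map g'
          (Ideal.kerLiftAlg_injective g)
        exact h1
      have hmul : π ((1 : κ) ⊗ₜ[R] ψ (IsLocalization.mk' (Localization.AtPrime q) y t)) * π ((1 : κ) ⊗ₜ[R] ξ t) =
          π ((1 : κ) ⊗ₜ[R] ξ y) := by
        rw [← map_mul, Algebra.TensorProduct.tmul_mul_tmul, one_mul]
        congr 2
        show _ * ψ (algebraMap U (Localization.AtPrime q) t) = ψ (algebraMap U (Localization.AtPrime q) y)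
        rw [← map_mul, IsLocalization.mk'_spec]
      have hunit : π ((1 : κ) ⊗ₜ[R] ξ t) ≠ 0 :=
        (((IsLocalization.map_units (Localization.AtPrime q) t).map ψ).map
          ((π.restrictScalars R).comp ι)).ne_zero
      rw [← mem_separableClosure_iff]
      show π ((1 : κ) ⊗ₜ[R] ψ (IsLocalization.mk' (Localization.AtPrime q) y t)) ∈ separableClosure κ (F ⧸ I.asIdeal)
      rw [eq_div_of_mul_eq hunit hmul]
      exact div_mem (mem_separableClosure_iff.2 (hsu y)) (mem_separableClosure_iff.2 (hsu t))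
    have hr0 : algebraMap R κ r ≠ 0 := by rwa [Ne, Ideal.algebraMap_residueField_eq_zero]
    have hz : π z = π ((1 : κ) ⊗ₜ[R] s) / algebraMap κ (F ⧸ I.asIdeal) (algebraMap R κ r) := by
      rw [eq_div_iff ((map_ne_zero _).2 hr0), ← hs, map_mul, mul_comm, IsScalarTower.algebraMap_apply R κ F,
        π.commutes]
    show IsSeparable κ (π z)
    rw [← mem_separableClosure_iff, hz]
    exact div_mem (mem_separableClosure_iff.2 hsep1) (IntermediateField.algebraMap_mem _ _)
  let eι := Finite.equivFin (MaximalSpectrum F)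
  exact ⟨_, fun i => F ⧸ (eι.symm i).asIdeal, fun i => Ideal.Quotient.field _, fun i => inferInstance,
    fun i => hsep _, ⟨(e₀.restrictScalars κ).trans (AlgEquiv.piCongrLeft' κ (fun I : MaximalSpectrum F => F ⧸ I.asIdeal) eι)⟩⟩

end HenselDesc
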